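import Cfsg.Agent.H235.Ore.He
import Cfsg.Agent.H714.S8.AdjA_m3
import Cfsg.Agent.H528.RatB.He
import Cfsg.Agent.UGT.EndJ1.Main_m3
import Cfsg.Agent.S0157
import Cfsg.Agent.Prune
set_option linter.all false

-- part: H825/SB/HeTabA
section
set_option linter.all false
open scoped Cfsg.Agent.FastGrp

/-!
# Families of classes of the Held group (helper825)

The colours of the pairs `(y, x y)` of the action on 2058 points: `Row x i` says that `x` belongs to the family `i`.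
There are 22 families; the permutation character and the spherical characters of degrees 680 and 1275 are given by
tables.
-/

set_option autoImplicit false
set_option maxRecDepth 100000

namespace Cfsg.Agent.H825.SB.He

open Cfsg Cfsg.Spor Subgroup
open Cfsg.Spor.He (Gen)
open Cfsg.Agent.SporadicB.HePerm
open Cfsg.Agent.FixBN.HeStab Cfsg.Agent.KFacts.He.Lv Cfsg.Agent.CpAutHe.Cnt
open Cfsg.Agent.H235.Ore.HeCert Cfsg.Agent.H235.Ore.He
open Cfsg.Agent.H713.Two.HeClasses (Nn Nn_conj Nn_wd)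
open Cfsg.Agent.H153.Zeros.He17 (W17 o17)
open Cfsg.Agent.H19.Odd.HeCnt (XB XC)

/-! ### Symmetric colours -/

/-- colour 0 -/
def c0P (y z : ℕ) : Bool := Nat.beq (colr y z) 0
/-- colour 1 -/
def c1P (y z : ℕ) : Bool := Nat.beq (colr y z) 1

theorem c0P_inv (g : Cfsg.Spor.He) (i j : Fin 2058) :
    c0P (phi g i : Fin 2058) (phi g j : Fin 2058) = c0P i j := by
  unfold c0P
  rw [colr_inv]

theorem c1P_inv (g : Cfsg.Spor.He) (i j : Fin 2058) :
    c1P (phi g i : Fin 2058) (phi g j : Fin 2058) = c1P i j := by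
  unfold c1P
  rw [colr_inv]

def symB (P : ℕ → ℕ → Bool) : Bool := allBelow 2058 fun y => bif P y 0 then P 0 y else !(P 0 y)

theorem exists_to_zero (i : Fin 2058) : ∃ g : Cfsg.Spor.He, phi g i = 0 := by
  obtain ⟨g, hg⟩ := Cfsg.Agent.S1683.exists_map_zero i
  refine ⟨g⁻¹, ?_⟩
  rw [← hg, map_inv, inv_app]

theorem app_inv' (k : Cfsg.Spor.He) (x : Fin 2058) : phi k ((phi k)⁻¹ x) = x := by
  rw [← Equiv.Perm.mul_apply, mul_inv_cancel, Equiv.Perm.one_apply]

theorem symm_of {P : ℕ → ℕ → Bool} (hP : ∀ (g : Cfsg.Spor.He) (i j : Fin 2058),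
    P (phi g i : Fin 2058) (phi g j : Fin 2058) = P i j) (h : symB P = true) (i j : Fin 2058) : P i j = P j i := by
  obtain ⟨g, hg⟩ := exists_to_zero i
  rw [← hP g i j, ← hP g j i, hg]
  have h1 := of_allBelow h (phi g j) (phi g j).2
  have e : ((0 : Fin 2058) : ℕ) = 0 := rfl
  rw [e]
  cases hb : P (phi g j : Fin 2058) 0 <;> rw [hb] at h1 <;> simpa using h1

theorem Nn_inv {P : ℕ → ℕ → Bool} (hs : ∀ i j : Fin 2058, P i j = P j i) (x : Cfsg.Spor.He) : Nn P x⁻¹ = Nn P x := by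
  unfold Nn
  refine Nat.card_congr (Equiv.subtypeEquiv (phi x⁻¹) fun i => ?_)
  rw [hs, map_inv, app_inv']

/-! ### Families -/

def T0 : List ℕ := [2058, 154, 42, 42, 0, 14, 18, 2, 8, 10, 0, 0, 0, 2, 4, 2, 0, 0, 2, 1, 0, 0]
def T1 : List ℕ := [0, 224, 1344, 756, 1386, 1232, 960, 1488, 1150, 1196, 1176, 1372, 1470, 1264, 1254, 1376, 1288,
  1358, 1306, 1360, 1456, 1400]
def T2 : List ℕ := [0, 1680, 672, 1260, 420, 812, 888, 248, 600, 708, 294, 686, 196, 584, 580, 416, 518, 364, 570, 425,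
  266, 350]
/-- squares -/
def P2 : List ℕ := [0, 0, 0, 3, 4, 1, 2, 2, 8, 3, 10, 11, 12, 7, 8, 9, 10, 12, 18, 19, 20, 16]

/-- `x` belongs to the family `i` -/
structure Row (x : Cfsg.Spor.He) (i : ℕ) : Prop where
  lt : i < 22
  n0 : Nn c0P x = T0.getD i 0
  n1 : Nn c1P x = T1.getD i 0
  n2 : Nn c2P x = T2.getD i 0
  sq : Nn c1P (x ^ 2) = T1.getD (P2.getD i 0) 0

/-- the weight of a colour, all in one number -/
def wt (c : ℕ) : ℕ := Nat.land (Nat.shiftRight 4611686018477719552 (Nat.mul 25 c)) 33554431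

theorem beq_false {a b : ℕ} (h : a ≠ b) : Nat.beq a b = false := by
  cases h1 : Nat.beq a b
  · rfl
  · exact absurd (Nat.eq_of_beq_eq_true h1) h

theorem wt_eq (c : ℕ) : wt c = (bif Nat.beq c 1 then 1 else 0) + 4096 * (bif Nat.beq c 2 then 1 else 0) +
    16777216 * (bif Nat.beq c 0 then 1 else 0) := by
  by_cases h : c < 3
  · interval_cases c <;> decide
  · obtain ⟨k, rfl⟩ := Nat.exists_eq_add_of_le (not_lt.1 h)
    have e1 : Nat.beq (3 + k) 1 = false := beq_false (by omega)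
    have e2 : Nat.beq (3 + k) 2 = false := beq_false (by omega)
    have e3 : Nat.beq (3 + k) 0 = false := beq_false (by omega)
    have e4 : wt (3 + k) = (4611686018477719552 >>> (25 * (3 + k))) &&& 33554431 := rfl
    rw [e1, e2, e3, e4, Nat.shiftRight_eq_div_pow, Nat.div_eq_of_lt, Nat.zero_and]
    · rfl
    · calc 4611686018477719552 < 2 ^ 75 := by norm_num
        _ ≤ 2 ^ (25 * (3 + k)) := Nat.pow_le_pow_right (by norm_num) (by omega)

/-! ### A faster evaluation -/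

namespace Fst

/-- evaluation before use -/
def frc (n : ℕ) (k : ℕ → ℕ) : ℕ := Nat.rec (k 0) (fun m _ => k (Nat.succ m)) n

theorem frc_eq (n : ℕ) (k : ℕ → ℕ) : frc n k = k n := by cases n <;> rfl

/-- the table of the generator with a given number -/
def sel (s d : ℕ) (k : ℕ → ℕ) : ℕ :=
  Nat.rec (k Data.ta) (fun s _ => Nat.rec (k Data.tb) (fun s _ => Nat.rec (k Data.tc) (fun s _ => Nat.rec (k Data.td)
    (fun s _ => Nat.rec (k Data.te) (fun s _ => Nat.rec (k Data.tf) (fun s _ => Nat.rec (k Data.tg)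
      (fun _ _ => d) s) s) s) s) s) s) s

theorem sel_spec (s : ℕ) : (∀ d k, sel s d k = d) ∧ (∀ i, stp s i = i) ∨
    ∃ t, (∀ d k, sel s d k = k t) ∧ ∀ i, stp s i = look t i :=
  match s with
  | 0 => .inr ⟨_, fun _ _ => rfl, fun _ => rfl⟩
  | 1 => .inr ⟨_, fun _ _ => rfl, fun _ => rfl⟩
  | 2 => .inr ⟨_, fun _ _ => rfl, fun _ => rfl⟩
  | 3 => .inr ⟨_, fun _ _ => rfl, fun _ => rfl⟩
  | 4 => .inr ⟨_, fun _ _ => rfl, fun _ => rfl⟩
  | 5 => .inr ⟨_, fun _ _ => rfl, fun _ => rfl⟩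
  | 6 => .inr ⟨_, fun _ _ => rfl, fun _ => rfl⟩
  | _ + 7 => .inl ⟨fun _ _ => rfl, fun _ => rfl⟩

/-- the map which moves a point along the spanning tree -/
def pth (n : ℕ) : ℕ → (ℕ → ℕ) → ((ℕ → ℕ) → ℕ) → ℕ :=
  Nat.rec (fun _ g k => k g) (fun _ ih x g k => bif Nat.beq x 0 then k g else
    sel (look4 FixBN.HeData.stepT x) (ih x g k) fun s => frc (look s x) fun x' =>
      ih x' (fun z => Nat.land (Nat.shiftRight s (Nat.mul (nat_lit 12) (g z))) (nat_lit 4095)) k) n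

theorem pth_eq (n : ℕ) : ∀ (x : ℕ) (g : ℕ → ℕ) (k : (ℕ → ℕ) → ℕ), pth n x g k = k fun z => walk n x (g z) := by
  induction n with
  | zero => exact fun _ _ _ => rfl
  | succ n ih =>
    intro x g k
    have e : pth (n + 1) x g k = bif Nat.beq x 0 then k g else
      sel (look4 FixBN.HeData.stepT x) (pth n x g k) fun s => frc (look s x) fun x' =>
        pth n x' (fun z => look s (g z)) k := rfl
    simp only [e, walk_succ, frc_eq, ih]
    cases Nat.beq x 0
    · rcases sel_spec (look4 FixBN.HeData.stepT x) with ⟨h1, h2⟩ | ⟨t, h1, h2⟩ <;> simp only [h1, h2, cond_false]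
    · rfl

/-- the weight of the colour of a point -/
def wc (z : ℕ) : ℕ := Nat.land (Nat.shiftRight (nat_lit 4611686018477719552) (Nat.mul (nat_lit 25)
  (Nat.land (Nat.shiftRight FixBN.HeData.colT (Nat.mul (nat_lit 4) z)) (nat_lit 15)))) (nat_lit 33554431)

theorem all_of {p : ℕ → Bool} : ∀ {n : ℕ}, (∀ i < n, p i = true) → allBelow n p = true
  | 0, _ => rfl
  | n + 1, h => by
    show (p n && allBelow n p) = true
    rw [h n n.lt_succ_self, all_of fun i hi => h i (hi.trans n.lt_succ_self)]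
    rfl

theorem sym : allBelow 2058 (fun y => Nat.beq (pth 17 y (fun z => z) fun g => wc (g 0)) (wc y)) = true := by
  decide +kernel

theorem sym' {y : ℕ} (hy : y < 2058) : c0P y 0 = c0P 0 y ∧ c1P y 0 = c1P 0 y ∧ c2P y 0 = c2P 0 y := by
  have h := Nat.eq_of_beq_eq_true (of_allBelow sym y hy)
  rw [pth_eq] at h
  replace h : wt (colr y 0) = wt (colr 0 y) := h
  rw [wt_eq, wt_eq] at h
  show Nat.beq (colr y 0) 0 = Nat.beq (colr 0 y) 0 ∧ Nat.beq (colr y 0) 1 = Nat.beq (colr 0 y) 1 ∧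
    Nat.beq (colr y 0) 2 = Nat.beq (colr 0 y) 2
  revert h
  generalize Nat.beq (colr y 0) 0 = a0, Nat.beq (colr y 0) 1 = a1, Nat.beq (colr y 0) 2 = a2,
    Nat.beq (colr 0 y) 0 = b0, Nat.beq (colr 0 y) 1 = b1, Nat.beq (colr 0 y) 2 = b2
  revert a0 a1 a2 b0 b1 b2
  decide

theorem symB_of {P : ℕ → ℕ → Bool} (h : ∀ y < 2058, P y 0 = P 0 y) : symB P = true :=
  all_of fun y hy => by
    rw [h y hy]
    cases P 0 y <;> rfl

end Fst

theorem sym0 : symB c0P = true := Fst.symB_of fun _ hy => (Fst.sym' hy).1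
theorem sym1 : symB c1P = true := Fst.symB_of fun _ hy => (Fst.sym' hy).2.1
theorem sym2 : symB c2P = true := Fst.symB_of fun _ hy => (Fst.sym' hy).2.2

/-- the tally of a word, all in one number -/
def tal (w : List Gen) (n : ℕ) : ℕ := Nat.rec 0 (fun k ih => Nat.add (wt (colr k (act w k))) ih) n

theorem tal_eq (w : List Gen) (n : ℕ) : tal w n = cnt n (fun y => c1P y (act w y)) +
    4096 * cnt n (fun y => c2P y (act w y)) + 16777216 * cnt n (fun y => c0P y (act w y)) := by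
  induction n with
  | zero => rfl
  | succ k ih =>
    have h1 : tal w (k + 1) = wt (colr k (act w k)) + tal w k := rfl
    have h2 : ∀ P : ℕ → Bool, cnt (k + 1) P = bif P k then Nat.succ (cnt k P) else cnt k P := fun P => rfl
    rw [h1, ih, wt_eq, h2, h2, h2]
    have e1 : c1P k (act w k) = Nat.beq (colr k (act w k)) 1 := rfl
    have e2 : c2P k (act w k) = Nat.beq (colr k (act w k)) 2 := rfl
    have e0 : c0P k (act w k) = Nat.beq (colr k (act w k)) 0 := rfl
    rw [← e1, ← e2, ← e0]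
    cases c1P k (act w k) <;> cases c2P k (act w k) <;> cases c0P k (act w k) <;> simp <;> ring

theorem cnt_le (n : ℕ) (P : ℕ → Bool) : cnt n P ≤ n := by
  induction n with
  | zero => exact le_rfl
  | succ k ih =>
    have h2 : cnt (k + 1) P = bif P k then Nat.succ (cnt k P) else cnt k P := rfl
    rw [h2]
    cases P k
    · exact ih.trans (Nat.le_succ k)
    · exact Nat.succ_le_succ ih

def tg (i : ℕ) : ℕ := T1.getD i 0 + 4096 * T2.getD i 0 + 16777216 * T0.getD i 0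

/-- the colours of a word -/
def chk3 (w : List Gen) (i : ℕ) : Bool := Nat.blt i 22 && Nat.beq (tal w 2058) (tg i)

theorem t_bound : ∀ i < 22, T1.getD i 0 < 4096 ∧ T2.getD i 0 < 4096 := by decide

theorem n_of_chk3 {w : List Gen} {i : ℕ} (h : chk3 w i = true) :
    i < 22 ∧ Nn c0P (wd w) = T0.getD i 0 ∧ Nn c1P (wd w) = T1.getD i 0 ∧ Nn c2P (wd w) = T2.getD i 0 := by
  rw [chk3, Bool.and_eq_true] at h
  obtain ⟨h1, h2⟩ := h
  have h1' : i < 22 := Nat.le_of_ble_eq_true h1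
  have h3 := Nat.eq_of_beq_eq_true h2
  rw [tal_eq, tg] at h3
  obtain ⟨b1, b2⟩ := t_bound i h1'
  have b3 := cnt_le 2058 (fun y => c1P y (act w y))
  have b4 := cnt_le 2058 (fun y => c2P y (act w y))
  rw [Nn_wd, Nn_wd, Nn_wd]
  omega

def chkRow (w : List Gen) (i : ℕ) : Bool :=
  chk3 w i && Nat.beq (cnt 2058 fun y => c1P y (act (pw w 2) y)) (T1.getD (P2.getD i 0) 0)

namespace Fst

/-- the action of a word as a map -/
def fn (w : List Gen) : ((ℕ → ℕ) → ℕ) → ℕ :=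
  List.rec (fun k => k fun z => z) (fun x _ ih k => ih fun g =>
    k fun z => Nat.land (Nat.shiftRight (tab x) (Nat.mul (nat_lit 12) (g z))) (nat_lit 4095)) w

theorem fn_eq (w : List Gen) : ∀ k, fn w k = k (act w) := by
  induction w with
  | nil => exact fun _ => rfl
  | cons x w ih => exact fun k => ih _

/-- the weights of the first powers of a map, as digits -/
def chn (g f : ℕ → ℕ) (m : ℕ) : ℕ → ℕ → ℕ :=
  Nat.rec (fun _ a => a) (fun _ ih z a => frc (f z) fun z' =>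
    ih z' (Nat.add (Nat.mul a (nat_lit 1099511627791)) (wc (g z')))) m

/-- the same for a list of words -/
def row (m : ℕ) (ws : List (List Gen)) : (((ℕ → ℕ) → ℕ → ℕ) → ℕ) → ℕ :=
  List.rec (fun k => k fun _ _ => 0) (fun w _ ih k => ih fun r => fn w fun f => k fun g y => chn g f m y (r g y)) ws

theorem row_eq (m : ℕ) (ws : List (List Gen)) :
    ∀ k, row m ws k = k fun g y => List.rec 0 (fun w _ a => chn g (act w) m y a) ws := by
  induction ws with
  | nil => exact fun _ => rfl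
  | cons w ws ih => exact fun k => (ih _).trans (fn_eq w _)

/-- the tallies of the first powers of the words, as digits -/
def tot (ws : List (List Gen)) (m n : ℕ) : ℕ :=
  row m ws fun r => Nat.rec 0 (fun y ih => Nat.add (pth 17 y (fun z => z) fun g => r g y) ih) n

def chT (n : ℕ) (w : List Gen) (m : ℕ) : ℕ → ℕ → ℕ :=
  Nat.rec (fun _ a => a) (fun _ ih j a => ih (j + 1) (a * 1099511627791 + tal (pw w (j + 1)) n)) m

theorem chT_zero (w : List Gen) (m : ℕ) : ∀ j, chT 0 w m j 0 = 0 := by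
  induction m with
  | zero => exact fun _ => rfl
  | succ m ih => exact fun j => ih (j + 1)

theorem chT_succ (n : ℕ) (w : List Gen) (m : ℕ) : ∀ j a b,
    chT (n + 1) w m j (a + b) = chn (walk 17 n) (act w) m (act (pw w j) n) a + chT n w m j b := by
  induction m with
  | zero => exact fun _ _ _ => rfl
  | succ m ih =>
    intro j a b
    have e : act (pw w (j + 1)) n = act w (act (pw w j) n) := act_append w _ n
    have h := ih (j + 1) (a * 1099511627791 + wt (colr n (act (pw w (j + 1)) n))) (b * 1099511627791 + tal (pw w (j + 1)) n)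
    rw [add_add_add_comm, ← add_mul] at h
    refine h.trans (congrArg₂ _ ?_ rfl)
    rw [e]
    exact (frc_eq _ fun z' => chn (walk 17 n) (act w) m z' (a * 1099511627791 + wt (colr n z'))).symm

theorem tot_eq (ws : List (List Gen)) (m n : ℕ) : tot ws m n = List.rec 0 (fun w _ a => chT n w m 0 a) ws := by
  rw [tot, row_eq]
  induction n with
  | zero =>
    induction ws with
    | nil => rfl
    | cons w ws ih => exact (chT_zero w m 0).symm.trans (congrArg (chT 0 w m 0) ih)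
  | succ n ih =>
    refine (congrArg₂ Nat.add (pth_eq 17 n _ _) ih).trans ?_
    clear ih
    induction ws with
    | nil => rfl
    | cons w ws ih => exact (chT_succ n w m 0 _ _).symm.trans (congrArg (chT (n + 1) w m 0) ih)

theorem tal_lt (w : List Gen) : tal w 2058 < 1099511627791 := by
  have b3 := cnt_le 2058 (fun y => c1P y (act w y))
  have b4 := cnt_le 2058 (fun y => c2P y (act w y))
  have b5 := cnt_le 2058 (fun y => c0P y (act w y))
  rw [tal_eq]
  omega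

theorem tg_lt : ∀ i < 22, tg i < 1099511627791 ∧ P2.getD i 0 < 22 := by decide +kernel

theorem chk3_of {w : List Gen} {i : ℕ} (h : i < 22) (e : tal w 2058 = tg i) : chk3 w i = true := by
  rw [chk3, e, Nat.beq_refl, Bool.and_true]
  exact Nat.ble_eq_true_of_le h

/-- the rows of a list of words -/
def rows (ws : List (List Gen × ℕ)) : Bool :=
  ws.all (fun p => Nat.blt p.2 22) && Nat.beq (tot (ws.map Prod.fst) 2 2058)
    (List.rec 0 (fun p _ a => (a * 1099511627791 + tg p.2) * 1099511627791 + tg (P2.getD p.2 0)) ws)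

theorem rows_sound {ws : List (List Gen × ℕ)} (h : rows ws = true) : ∀ p ∈ ws, chkRow p.1 p.2 = true := by
  rw [rows, Bool.and_eq_true, List.all_eq_true, tot_eq] at h
  obtain ⟨h1, h2⟩ := h
  replace h2 := Nat.eq_of_beq_eq_true h2
  induction ws with
  | nil => exact fun _ h => absurd h List.not_mem_nil
  | cons q ws ih =>
    have h3 : q.2 < 22 := Nat.le_of_ble_eq_true (h1 q List.mem_cons_self)
    obtain ⟨h4, h5⟩ := tg_lt _ h3
    have h6 := (tg_lt _ h5).1
    have h7 := tal_lt (pw q.1 1)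
    have h8 := tal_lt (pw q.1 2)
    have h9 : ∀ a b : ℕ, (a * 1099511627791 + tal (pw q.1 1) 2058) * 1099511627791 + tal (pw q.1 2) 2058 =
        (b * 1099511627791 + tg q.2) * 1099511627791 + tg (P2.getD q.2 0) →
        a = b ∧ tal (pw q.1 1) 2058 = tg q.2 ∧ tal (pw q.1 2) 2058 = tg (P2.getD q.2 0) := fun a b h => by omega
    obtain ⟨e1, e2, e3⟩ := h9 _ _ h2
    refine List.forall_mem_cons.2 ⟨?_, ih (fun p hp => h1 p (List.mem_cons_of_mem _ hp)) e1⟩
    rw [show pw q.1 1 = q.1 from List.append_nil _] at e2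
    have e4 := (n_of_chk3 (chk3_of h5 e3)).2.2.1
    rw [Nn_wd] at e4
    rw [chkRow, chk3_of h3 e2, e4, Nat.beq_refl]
    rfl

/-- a repeated digit -/
def rep (t m : ℕ) : ℕ → ℕ := Nat.rec (fun a => a) (fun _ ih a => ih (a * 1099511627791 + t)) m

theorem chT_sound {w : List Gen} {t n : ℕ} (hn : ∀ v, tal v n < 1099511627791) (ht : t < 1099511627791) (m : ℕ) :
    ∀ j a b, chT n w m j a = rep t m b → a = b ∧ ∀ i, j < i → i ≤ j + m → tal (pw w i) n = t := by
  induction m with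
  | zero => exact fun j a b h => ⟨h, fun i h1 h2 => absurd h1 (not_lt.2 h2)⟩
  | succ m ih =>
    intro j a b h
    obtain ⟨h1, h2⟩ := ih (j + 1) (a * 1099511627791 + tal (pw w (j + 1)) n) (b * 1099511627791 + t) h
    have h3 := hn (pw w (j + 1))
    refine ⟨by omega, fun i h4 h5 => ?_⟩
    rcases Nat.eq_or_lt_of_le h4 with rfl | h6
    · show tal (pw w (j + 1)) n = t
      omega
    · exact h2 i h6 (by omega)

theorem pows_sound {w : List Gen} {i m : ℕ} (hi : i < 22) (h : Nat.beq (tot [w] m 2058) (rep (tg i) m 0) = true) {j : ℕ}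
    (h1 : 1 ≤ j) (h2 : j ≤ m) : chk3 (pw w j) i = true :=
  chk3_of hi ((chT_sound tal_lt (tg_lt i hi).1 m 0 0 0 ((tot_eq [w] m 2058).symm.trans (Nat.eq_of_beq_eq_true h))).2 j h1 (by omega))

end Fst

theorem row_of_chk {w : List Gen} {i : ℕ} (h : chkRow w i = true) : Row (wd w) i := by
  rw [chkRow, Bool.and_eq_true] at h
  obtain ⟨h1, h2⟩ := h
  obtain ⟨h3, h4, h5, h6⟩ := n_of_chk3 h1
  refine ⟨h3, h4, h5, h6, ?_⟩
  rw [← wd_pw, Nn_wd]
  exact Nat.eq_of_beq_eq_true h2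

theorem Row.inv {x : Cfsg.Spor.He} {i : ℕ} (h : Row x i) : Row x⁻¹ i := by
  refine ⟨h.lt, ?_, ?_, ?_, ?_⟩
  · rw [Nn_inv (symm_of c0P_inv sym0), h.n0]
  · rw [Nn_inv (symm_of c1P_inv sym1), h.n1]
  · rw [Nn_inv (symm_of c2P_inv sym2), h.n2]
  · rw [inv_pow, Nn_inv (symm_of c1P_inv sym1), h.sq]

theorem Row.conj {x y : Cfsg.Spor.He} {i : ℕ} (h : Row x i) (hxy : IsConj x y) : Row y i := by
  refine ⟨h.lt, ?_, ?_, ?_, ?_⟩
  · rw [← Nn_conj c0P_inv hxy, h.n0]
  · rw [← Nn_conj c1P_inv hxy, h.n1]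
  · rw [← Nn_conj c2P_inv hxy, h.n2]
  · rw [← Nn_conj c1P_inv (hxy.pow 2), h.sq]

end Cfsg.Agent.H825.SB.He

private theorem dce_dc94cec38283 : _root_.True := by
  try have : _root_.True := by simp only [_root_.Cfsg.Agent.H825.SB.He.tg.eq_1]
  try have : _root_.True := by simp only [_root_.Cfsg.Agent.H825.SB.He.chk3.eq_1]
  try have : _root_.True := by simp only [_root_.Cfsg.Agent.H825.SB.He.chkRow.eq_1]
  exact _root_.True.intro
end

-- part: H825/SB/HeTabD
section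
set_option linter.all false

/-!
# Families of the classes of the Held group, II (helper825)
-/

set_option autoImplicit false
set_option maxRecDepth 100000

namespace Cfsg.Agent.H825.SB.He

open Cfsg Cfsg.Spor Subgroup
open Cfsg.Spor.He (Gen)
open Cfsg.Agent.SporadicB.HePerm
open Cfsg.Agent.FixBN.HeStab Cfsg.Agent.KFacts.He.Lv Cfsg.Agent.CpAutHe.Cnt
open Cfsg.Agent.H235.Ore.HeCert Cfsg.Agent.H235.Ore.He
open Cfsg.Agent.H713.Two.HeClasses (Nn Nn_conj Nn_wd)
open Cfsg.Agent.H153.Zeros.He17 (W17 o17)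
open Cfsg.Agent.H19.Odd.HeCnt (XB XC)

theorem Fst.rowsD : Fst.rows [(x12A, 4), (x12B, 15), (x5A, 8), (x8A, 13), (x10A, 14), (x15A, 18), (x14A, 16), (x14C, 17), (x28A, 21), (x7A, 10), (XC, 11), (x7D, 12), (x21C, 4)] = true := by
  decide +kernel

theorem w12A : chkRow x12A 4 = true := Fst.rows_sound Fst.rowsD (x12A, 4) (.head _)
theorem w12B : chkRow x12B 15 = true := Fst.rows_sound Fst.rowsD (x12B, 15) (.tail _ (.head _))
theorem w5A : chkRow x5A 8 = true := Fst.rows_sound Fst.rowsD (x5A, 8) (.tail _ (.tail _ (.head _)))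
theorem w8A : chkRow x8A 13 = true := Fst.rows_sound Fst.rowsD (x8A, 13) (.tail _ (.tail _ (.tail _ (.head _))))
theorem w10A : chkRow x10A 14 = true := Fst.rows_sound Fst.rowsD (x10A, 14) (.tail _ (.tail _ (.tail _ (.tail _ (.head _)))))
theorem w15A : chkRow x15A 18 = true := Fst.rows_sound Fst.rowsD (x15A, 18) (.tail _ (.tail _ (.tail _ (.tail _ (.tail _ (.head _))))))
theorem w14A : chkRow x14A 16 = true := Fst.rows_sound Fst.rowsD (x14A, 16) (.tail _ (.tail _ (.tail _ (.tail _ (.tail _ (.tail _ (.head _)))))))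
theorem w14C : chkRow x14C 17 = true := Fst.rows_sound Fst.rowsD (x14C, 17) (.tail _ (.tail _ (.tail _ (.tail _ (.tail _ (.tail _ (.tail _ (.head _))))))))
theorem w28A : chkRow x28A 21 = true := Fst.rows_sound Fst.rowsD (x28A, 21) (.tail _ (.tail _ (.tail _ (.tail _ (.tail _ (.tail _ (.tail _ (.tail _ (.head _)))))))))
theorem w7A : chkRow x7A 10 = true := Fst.rows_sound Fst.rowsD (x7A, 10) (.tail _ (.tail _ (.tail _ (.tail _ (.tail _ (.tail _ (.tail _ (.tail _ (.tail _ (.head _))))))))))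
theorem w7C : chkRow XC 11 = true := Fst.rows_sound Fst.rowsD (XC, 11) (.tail _ (.tail _ (.tail _ (.tail _ (.tail _ (.tail _ (.tail _ (.tail _ (.tail _ (.tail _ (.head _)))))))))))
theorem w7D : chkRow x7D 12 = true := Fst.rows_sound Fst.rowsD (x7D, 12) (.tail _ (.tail _ (.tail _ (.tail _ (.tail _ (.tail _ (.tail _ (.tail _ (.tail _ (.tail _ (.tail _ (.head _))))))))))))
theorem w21C : chkRow x21C 4 = true := Fst.rows_sound Fst.rowsD (x21C, 4) (.tail _ (.tail _ (.tail _ (.tail _ (.tail _ (.tail _ (.tail _ (.tail _ (.tail _ (.tail _ (.tail _ (.tail _ (.head _)))))))))))))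

end Cfsg.Agent.H825.SB.He
end

-- part: H825/SB/HeTabC
section
set_option linter.all false

/-!
# Families of the classes of the Held group, I (helper825)
-/

set_option autoImplicit false
set_option maxRecDepth 100000

namespace Cfsg.Agent.H825.SB.He

open Cfsg Cfsg.Spor Subgroup
open Cfsg.Spor.He (Gen)
open Cfsg.Agent.SporadicB.HePerm
open Cfsg.Agent.FixBN.HeStab Cfsg.Agent.KFacts.He.Lv Cfsg.Agent.CpAutHe.Cnt
open Cfsg.Agent.H235.Ore.HeCert Cfsg.Agent.H235.Ore.He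
open Cfsg.Agent.H713.Two.HeClasses (Nn Nn_conj Nn_wd)
open Cfsg.Agent.H153.Zeros.He17 (W17 o17)
open Cfsg.Agent.H19.Odd.HeCnt (XB XC)

theorem Fst.rowsC : Fst.rows [([], 0), (x21A, 20), (pw x21A 2, 20), (x2A, 1), (x2B, 2), (x3A, 3), (XB, 4), (x4A, 5), (x4B, 6), (x4C, 7), (x6A, 9), (x6B, 4)] = true := by
  decide +kernel

theorem w1 : chkRow [] 0 = true := Fst.rows_sound Fst.rowsC ([], 0) (.head _)
theorem w21A : chkRow x21A 20 = true := Fst.rows_sound Fst.rowsC (x21A, 20) (.tail _ (.head _))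
theorem w21B : chkRow (pw x21A 2) 20 = true := Fst.rows_sound Fst.rowsC ((pw x21A 2), 20) (.tail _ (.tail _ (.head _)))
theorem w2A : chkRow x2A 1 = true := Fst.rows_sound Fst.rowsC (x2A, 1) (.tail _ (.tail _ (.tail _ (.head _))))
theorem w2B : chkRow x2B 2 = true := Fst.rows_sound Fst.rowsC (x2B, 2) (.tail _ (.tail _ (.tail _ (.tail _ (.head _)))))
theorem w3A : chkRow x3A 3 = true := Fst.rows_sound Fst.rowsC (x3A, 3) (.tail _ (.tail _ (.tail _ (.tail _ (.tail _ (.head _))))))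
theorem w3B : chkRow XB 4 = true := Fst.rows_sound Fst.rowsC (XB, 4) (.tail _ (.tail _ (.tail _ (.tail _ (.tail _ (.tail _ (.head _)))))))
theorem w4A : chkRow x4A 5 = true := Fst.rows_sound Fst.rowsC (x4A, 5) (.tail _ (.tail _ (.tail _ (.tail _ (.tail _ (.tail _ (.tail _ (.head _))))))))
theorem w4B : chkRow x4B 6 = true := Fst.rows_sound Fst.rowsC (x4B, 6) (.tail _ (.tail _ (.tail _ (.tail _ (.tail _ (.tail _ (.tail _ (.tail _ (.head _)))))))))
theorem w4C : chkRow x4C 7 = true := Fst.rows_sound Fst.rowsC (x4C, 7) (.tail _ (.tail _ (.tail _ (.tail _ (.tail _ (.tail _ (.tail _ (.tail _ (.tail _ (.head _))))))))))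
theorem w6A : chkRow x6A 9 = true := Fst.rows_sound Fst.rowsC (x6A, 9) (.tail _ (.tail _ (.tail _ (.tail _ (.tail _ (.tail _ (.tail _ (.tail _ (.tail _ (.tail _ (.head _)))))))))))
theorem w6B : chkRow x6B 4 = true := Fst.rows_sound Fst.rowsC (x6B, 4) (.tail _ (.tail _ (.tail _ (.tail _ (.tail _ (.tail _ (.tail _ (.tail _ (.tail _ (.tail _ (.tail _ (.head _))))))))))))

end Cfsg.Agent.H825.SB.He
end

-- part: H825/SB/HeTabB
section
set_option linter.all false
open scoped Cfsg.Agent.FastGrp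

/-!
# Families of the elements of order 17 of the Held group (helper825)
-/

set_option autoImplicit false
set_option maxRecDepth 100000

namespace Cfsg.Agent.H825.SB.He

open Cfsg Cfsg.Spor Subgroup
open Cfsg.Spor.He (Gen)
open Cfsg.Agent.SporadicB.HePerm
open Cfsg.Agent.FixBN.HeStab Cfsg.Agent.KFacts.He.Lv Cfsg.Agent.CpAutHe.Cnt
open Cfsg.Agent.H235.Ore.HeCert Cfsg.Agent.H235.Ore.He
open Cfsg.Agent.H713.Two.HeClasses (Nn Nn_conj Nn_wd)
open Cfsg.Agent.H153.Zeros.He17 (W17 o17)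
open Cfsg.Agent.H19.Odd.HeCnt (XB XC)

theorem Fst.rows17 : Nat.beq (Fst.tot [W17] 8 2058) (Fst.rep (tg 19) 8 0) = true := by decide +kernel

theorem row17_aux {m : ℕ} (h1 : 1 ≤ m) (h2 : m ≤ 8) : chk3 (pw W17 m) 19 = true :=
  Fst.pows_sound (by decide) Fst.rows17 h1 h2

theorem n17 {n : ℕ} (h1 : 1 ≤ n) (h2 : n < 17) :
    Nn c0P (wd W17 ^ n) = 1 ∧ Nn c1P (wd W17 ^ n) = 1360 ∧ Nn c2P (wd W17 ^ n) = 425 := by
  by_cases h : n ≤ 8
  · have h3 := (n_of_chk3 (row17_aux h1 h)).2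
    rwa [wd_pw] at h3
  · have h3 := (n_of_chk3 (row17_aux (m := 17 - n) (by omega) (by omega))).2
    rw [wd_pw] at h3
    have e : wd W17 ^ n = (wd W17 ^ (17 - n))⁻¹ := by
      rw [eq_inv_iff_mul_eq_one, ← pow_add, show n + (17 - n) = 17 by omega, ← o17, pow_orderOf_eq_one]
    rw [e, Nn_inv (symm_of c0P_inv sym0), Nn_inv (symm_of c1P_inv sym1), Nn_inv (symm_of c2P_inv sym2)]
    exact h3

theorem row17 {a : Cfsg.Spor.He} (ha : a ∈ zpowers (wd W17)) (h1 : a ≠ 1) : Row a 19 := by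
  classical
  obtain ⟨hfin, -⟩ := Cfsg.Agent.SporadicB.HeUpper.card_he_le
  rw [mem_zpowers_iff_mem_range_orderOf, o17, Finset.mem_image] at ha
  obtain ⟨n, hn, rfl⟩ := ha
  rw [Finset.mem_range] at hn
  have h0 : n ≠ 0 := by
    rintro rfl
    exact h1 (pow_zero _)
  obtain ⟨e0, e1, e2⟩ := n17 (by omega) hn
  refine ⟨by norm_num, e0, e1, e2, ?_⟩
  have e3 : (wd W17 ^ n) ^ 2 = wd W17 ^ (2 * n % 17) := by
    rw [← pow_mul, mul_comm n 2]
    conv_rhs => rw [← o17]
    rw [pow_mod_orderOf]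
  rw [e3]
  exact (n17 (by omega) (by omega)).2.1

end Cfsg.Agent.H825.SB.He
end

-- part: H825/SB/HeChar
section
set_option linter.all false
open scoped Cfsg.Agent.FastGrp

/-!
# The character of degree 20825 of the Held group (helper825)

The permutation character of degree 2058 and the spherical characters of degrees 680 and 1275 as tables on the 22
families (helper300's tables of generalized characters); an integral combination of Adams operations, exterior squares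
and products has norm one and degree 20825.
-/

set_option autoImplicit false
set_option maxRecDepth 100000

namespace Cfsg.Agent.H825.SB.He

open Cfsg Cfsg.Spor Subgroup Cfsg.Agent.Characters.Core Cfsg.Agent.Characters.Brauer
open Cfsg.Spor.He (Gen)
open Cfsg.Agent.SporadicB.HePerm
open Cfsg.Agent.FixBN.HeStab Cfsg.Agent.KFacts.He.Lv Cfsg.Agent.CpAutHe.Cnt
open Cfsg.Agent.H235.Ore.HeCert Cfsg.Agent.H235.Ore.He Cfsg.Agent.H300.Cls
open Cfsg.Agent.H713.Two.HeClasses (Nn Nn_conj Nn_wd)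
open Cfsg.Agent.H153.Zeros.He17 (W17 o17)
open Cfsg.Agent.H19.Odd.HeCnt (XB XC)
open Cfsg.Agent.H329.K4.Orb Cfsg.Agent.H329.K4.He
open Cfsg.Agent.H707.Odd.He (cls cls_val labN smul_eq B hB r w_smul k hk cls_zero)
open scoped ComplexConjugate

attribute [local instance] Cfsg.Agent.H707.Odd.He.instActHe

/-- the families of the classes of the list `L` -/
def F33 : List ℕ := [19, 19, 0, 20, 20, 1, 2, 3, 4, 5, 6, 7, 9, 4, 4, 15, 8, 13, 14, 18, 16, 16, 17, 17, 21, 21, 10, 10,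
  11, 12, 12, 4, 4]

theorem rows {a b : Cfsg.Spor.He} (ha : Row a 19) (hb : Row b 19) : List.Forall₂ (fun p i => Row p.1 i) (L a b) F33 := by
  have h1 : Row (1 : Cfsg.Spor.He) 0 := row_of_chk (w := []) w1
  have h21 : Row (wd x21A ^ 2) 20 := by
    rw [← wd_pw]
    exact row_of_chk w21B
  unfold L F33
  exact .cons ha (.cons hb (.cons h1 (.cons (row_of_chk w21A) (.cons h21 (.cons (row_of_chk w2A) (.cons (row_of_chk w2B)
    (.cons (row_of_chk w3A) (.cons (row_of_chk w3B) (.cons (row_of_chk w4A) (.cons (row_of_chk w4B)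
    (.cons (row_of_chk w4C) (.cons (row_of_chk w6A) (.cons (row_of_chk w6B) (.cons (row_of_chk w12A)
    (.cons (row_of_chk w12B) (.cons (row_of_chk w5A) (.cons (row_of_chk w8A) (.cons (row_of_chk w10A)
    (.cons (row_of_chk w15A) (.cons (row_of_chk w14A) (.cons (row_of_chk w14A).inv (.cons (row_of_chk w14C)
    (.cons (row_of_chk w14C).inv (.cons (row_of_chk w28A) (.cons (row_of_chk w28A).inv (.cons (row_of_chk w7A)
    (.cons (row_of_chk w7A).inv (.cons (row_of_chk w7C) (.cons (row_of_chk w7D) (.cons (row_of_chk w7D).inv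
    (.cons (row_of_chk w21C) (.cons (row_of_chk w21C).inv .nil))))))))))))))))))))))))))))))))


/-! ### The classes -/

theorem data : ∃ a b : Cfsg.Spor.He, Row a 19 ∧ Row b 19 ∧
    (∀ p ∈ L a b, Nat.card ↥(centralizer ({p.1} : Set Cfsg.Spor.He)) ≤ p.2) ∧
    ((L a b).map fun p => ConjClasses.mk p.1).Nodup := by
  obtain ⟨a, b, ha, hb, ha1, hb1, hab⟩ := exists_pair
  exact ⟨a, b, row17 ha ha1, row17 hb hb1, L_cent (cent_mem ha ha1) (cent_mem hb hb1),
    L_nodup (ord_mem ha ha1) (ord_mem hb hb1) hab⟩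

/-- the orders of the centralizers -/
def C33 : List ℕ := [17, 17, 4030387200, 21, 21, 161280, 21504, 7560, 504, 672, 384, 128, 72, 24, 12, 12, 300, 16, 20,
  15, 56, 56, 14, 14, 28, 28, 1176, 1176, 1029, 98, 98, 21, 21]

theorem map_snd (a b : Cfsg.Spor.He) : (L a b).map Prod.snd = C33 := rfl

/-- **the classes of the Held group with their families** -/
theorem classes33 : ∃ x : Fin 33 → Cfsg.Spor.He, (∀ i, Row (x i) (F33.getD i 0)) ∧
    (∀ i j, IsConj (x i) (x j) → i = j) ∧ (∀ g, ∃ i, IsConj (x i) g) ∧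
    ∀ i, Nat.card {u : Cfsg.Spor.He // IsConj (x i) u} = 4030387200 / C33.getD i 0 := by
  obtain ⟨hfin, -⟩ := Cfsg.Agent.SporadicB.HeUpper.card_he_le
  obtain ⟨a, b, ha, hb, hc, hd⟩ := data
  have hlt : ∀ i : Fin 33, (i : ℕ) < (L a b).length := fun i => i.2
  have hn : ∀ i j : Fin 33, IsConj ((L a b)[(i : ℕ)]'(hlt i)).1 ((L a b)[(j : ℕ)]'(hlt j)).1 → i = j := by
    intro i j h
    have h1 : (i : ℕ) < ((L a b).map fun p => ConjClasses.mk p.1).length := by
      rw [List.length_map]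
      exact hlt i
    have h2 : (j : ℕ) < ((L a b).map fun p => ConjClasses.mk p.1).length := by
      rw [List.length_map]
      exact hlt j
    have h3 := (hd.getElem_inj_iff (hi := h1) (hj := h2)).1 (by
      rw [List.getElem_map, List.getElem_map]
      exact ConjClasses.mk_eq_mk_iff_isConj.2 h)
    exact Fin.ext h3
  have hrow : ∀ i : Fin 33, Row ((L a b)[(i : ℕ)]'(hlt i)).1 (F33.getD i 0) := by
    intro i
    have h1 := (List.forall₂_iff_get.1 (rows ha hb)).2 i (hlt i) i.2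
    rw [List.get_eq_getElem, List.get_eq_getElem] at h1
    rw [List.getD_eq_getElem _ _ i.2]
    exact h1
  have hcc : ∀ i : Fin 33, ((L a b)[(i : ℕ)]'(hlt i)).2 = C33.getD i 0 := by
    intro i
    have h1 : (i : ℕ) < ((L a b).map Prod.snd).length := by
      rw [List.length_map]
      exact hlt i
    rw [← map_snd a b, List.getD_eq_getElem _ _ h1, List.getElem_map]
  obtain ⟨h1, h2⟩ := Cfsg.Agent.H300.Cls.complete (fun i : Fin 33 => ((L a b)[(i : ℕ)]'(hlt i)).1)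
    (fun i => C33.getD i 0) (fun i => by
      rw [← hcc i]
      exact hc _ (List.getElem_mem (hlt i))) hn (by
      rw [Cfsg.Agent.KFacts.He.Classes.card_he]
      decide +kernel)
  refine ⟨_, hrow, hn, h1, fun i => ?_⟩
  rw [h2 i, Cfsg.Agent.KFacts.He.Classes.card_he]

theorem exists_row (g : Cfsg.Spor.He) : ∃ i, Row g i := by
  obtain ⟨x, h1, -, h2, -⟩ := classes33
  obtain ⟨i, hi⟩ := h2 g
  exact ⟨_, (h1 i).conj hi⟩

/-- the family -/
noncomputable def fam (g : Cfsg.Spor.He) : ℕ := T1.idxOf (Nn c1P g)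

theorem idx : ∀ i < 22, T1.idxOf (T1.getD i 0) = i := by decide

theorem Row.fam_eq {x : Cfsg.Spor.He} {i : ℕ} (h : Row x i) : fam x = i := by
  rw [fam, h.n1, idx i h.lt]

theorem row_fam (g : Cfsg.Spor.He) : Row g (fam g) := by
  obtain ⟨i, h⟩ := exists_row g
  rwa [h.fam_eq]

theorem fam_lt (g : Cfsg.Spor.He) : fam g < 22 := (row_fam g).lt

theorem p2_lt : ∀ i < 22, P2.getD i 0 < 22 := by decide

theorem fam_sq (g : Cfsg.Spor.He) : fam (g ^ 2) = P2.getD (fam g) 0 := by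
  rw [fam, (row_fam g).sq, idx _ (p2_lt _ (fam_lt g))]

theorem fam_conj {x y : Cfsg.Spor.He} (h : IsConj x y) : fam x = fam y := ((row_fam x).conj h).fam_eq.symm

theorem fam_one : fam 1 = 0 := (row_of_chk (w := []) w1).fam_eq

/-! ### The permutation character -/

theorem chkc : (allBelow 2058 fun y => bif Nat.beq (col y) 0 then Nat.beq y 0 else true) = true := by decide +kernel

theorem c0P_iff (i j : Fin 2058) : c0P i j = true ↔ i = j := by
  obtain ⟨g, hg⟩ := exists_to_zero i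
  have h1 : colr i j = col (phi g j) := colr_eq g hg j
  unfold c0P
  rw [h1]
  constructor
  · intro h2
    have h3 := of_allBelow chkc (phi g j) (phi g j).2
    rw [h2] at h3
    have h4 : ((phi g j : Fin 2058) : ℕ) = 0 := Nat.eq_of_beq_eq_true h3
    have h5 : phi g j = 0 := Fin.ext h4
    exact (phi g).injective (hg.trans h5.symm)
  · rintro rfl
    rw [hg]
    rfl

theorem gc_one : GC fam [1, 1, 1, 1, 1, 1, 1, 1, 1, 1, 1, 1, 1, 1, 1, 1, 1, 1, 1, 1, 1, 1] := by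
  refine GC.of (isGeneralizedCharacter_of_isCharacter isCharacter_one) fun g => ?_
  have h : ∀ i < 22, ([1, 1, 1, 1, 1, 1, 1, 1, 1, 1, 1, 1, 1, 1, 1, 1, 1, 1, 1, 1, 1, 1] : List ℤ).getD i 0 = 1 := by decide
  rw [tv, h _ (fam_lt g)]
  simp

theorem gc_perm : GC fam [2058, 154, 42, 42, 0, 14, 18, 2, 8, 10, 0, 0, 0, 2, 4, 2, 0, 0, 2, 1, 0, 0] := by
  obtain ⟨hfin, -⟩ := Cfsg.Agent.SporadicB.HeUpper.card_he_le
  refine GC.of (isGeneralizedCharacter_of_isCharacter
    (Cfsg.Agent.S0157.isCharacter_fixedBy (G := Cfsg.Spor.He) (Fin 2058))) fun g => ?_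
  have h : ∀ i < 22, ([2058, 154, 42, 42, 0, 14, 18, 2, 8, 10, 0, 0, 0, 2, 4, 2, 0, 0, 2, 1, 0, 0] : List ℤ).getD i 0 = (T0.getD i 0 : ℤ) := by decide
  have h1 : Nat.card (MulAction.fixedBy (Fin 2058) g) = Nn c0P g := by
    unfold Nn
    refine Nat.card_congr (Equiv.subtypeEquivRight fun i => ?_)
    rw [c0P_iff, MulAction.mem_fixedBy, smul_eq]
    exact eq_comm
  rw [tv, h _ (fam_lt g), h1, (row_fam g).n0, Int.cast_natCast]

/-! ### The spherical characters -/

theorem labN_col : (allBelow 2058 fun y => Nat.beq (labN y) (col y)) = true := by decide +kernel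

theorem cls_eq (y : Fin 2058) : ((cls y : Fin 5) : ℕ) = col y := by
  rw [cls_val]
  exact Nat.eq_of_beq_eq_true (of_allBelow labN_col y y.2)

theorem Nn_sum (P : ℕ → ℕ → Bool) (g : Cfsg.Spor.He) :
    (Nn P g : ℂ) = ∑ x : Fin 2058, if P x (phi g x : Fin 2058) = true then (1 : ℂ) else 0 := by
  rw [Finset.sum_boole, ← Fintype.card_subtype, ← Nat.card_eq_fintype_card]
  rfl

theorem val_eq {a : Fin 5 → ℂ} {d : ℕ} {χ : Cfsg.Spor.He → ℂ} (h : Val (0 : Fin 2058) cls a d χ) (h34 : a 4 = a 3)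
    (g : Cfsg.Spor.He) : (2058 : ℂ) * χ g⁻¹ = d * (a 3 * 2058 + (a 0 - a 3) * Nn c0P g + (a 1 - a 3) * Nn c1P g +
      (a 2 - a 3) * Nn c2P g) := by
  choose s hs using base_tr
  have h1 := h.val s hs g⁻¹
  rw [Fintype.card_fin, inv_inv] at h1
  have key : ∀ x : Fin 2058, a (cls ((s x)⁻¹ • g • x)) = a 3 +
      (a 0 - a 3) * (if c0P x (phi g x : Fin 2058) = true then (1 : ℂ) else 0) +
      (a 1 - a 3) * (if c1P x (phi g x : Fin 2058) = true then (1 : ℂ) else 0) +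
      (a 2 - a 3) * (if c2P x (phi g x : Fin 2058) = true then (1 : ℂ) else 0) := by
    intro x
    have e1 : phi (s x)⁻¹ x = 0 := by
      rw [← smul_eq, inv_smul_eq_iff]
      exact (hs x).symm
    have e2 : colr x (phi g x : Fin 2058) = ((cls ((s x)⁻¹ • g • x) : Fin 5) : ℕ) := by
      rw [colr_eq _ e1, cls_eq]
      rfl
    unfold c0P c1P c2P
    rw [e2]
    generalize cls ((s x)⁻¹ • g • x) = c
    fin_cases c
    · simp
    · simp
    · simp
    · simp
    · simp [h34]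
  rw [Finset.sum_congr rfl fun x _ => key x, Finset.sum_add_distrib, Finset.sum_add_distrib, Finset.sum_add_distrib,
    ← Finset.mul_sum, ← Finset.mul_sum, ← Finset.mul_sum, ← Nn_sum, ← Nn_sum, ← Nn_sum, Finset.sum_const,
    Finset.card_univ, Fintype.card_fin, nsmul_eq_mul] at h1
  push_cast at h1
  rw [h1]
  ring

theorem val_eq' {a : Fin 5 → ℂ} {d : ℕ} {χ : Cfsg.Spor.He → ℂ} (h : Val (0 : Fin 2058) cls a d χ) (h34 : a 4 = a 3)
    (g : Cfsg.Spor.He) : (2058 : ℂ) * χ g = d * (a 3 * 2058 + (a 0 - a 3) * (T0.getD (fam g) 0 : ℕ) +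
      (a 1 - a 3) * (T1.getD (fam g) 0 : ℕ) + (a 2 - a 3) * (T2.getD (fam g) 0 : ℕ)) := by
  have h1 := val_eq h h34 g⁻¹
  rw [inv_inv, Nn_inv (symm_of c0P_inv sym0), Nn_inv (symm_of c1P_inv sym1), Nn_inv (symm_of c2P_inv sym2),
    (row_fam g).n0, (row_fam g).n1, (row_fam g).n2] at h1
  exact h1

/-- the spherical function of degree 1275 -/
noncomputable def a1275 : Fin 5 → ℂ := ![1, 1 / 85, -9 / 425, -1 / 34, -1 / 34]

theorem huniq1275 (a' : Fin 5 → ℂ) (h : ∀ i, ∑ j, (B i j : ℂ) * a' j = -4 * a' i) (i : Fin 5) :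
    a' i = a' 0 * a1275 i := by
  have h0 := h 0
  have h1 := h 1
  have h2 := h 2
  have h3 := h 3
  simp only [B, Fin.sum_univ_five, Matrix.cons_val, Nat.cast_ofNat, Nat.cast_zero] at h0 h1 h2 h3
  fin_cases i
  · show a' 0 = a' 0 * 1
    rw [mul_one]
  · show a' 1 = a' 0 * (1 / 85)
    linear_combination (-1 / 340 : ℂ) * h0 + (-9 / 700 : ℂ) * h1 + (27 / 1400 : ℂ) * h2 + (1 / 280 : ℂ) * h3
  · show a' 2 = a' 0 * (-9 / 425)
    linear_combination (9 / 1700 : ℂ) * h0 + (54 / 875 : ℂ) * h1 + (-149 / 3500 : ℂ) * h2 + (-3 / 175 : ℂ) * h3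
  · show a' 3 = a' 0 * (-1 / 34)
    linear_combination (1 / 136 : ℂ) * h0
  · show a' 4 = a' 0 * (-1 / 34)
    linear_combination (1 / 136 : ℂ) * h0 + (1 / 28 : ℂ) * h1 + (-3 / 56 : ℂ) * h2 + (1 / 56 : ℂ) * h3

theorem exists_1275 : ∃ χ : Spor.He → ℂ, Val (0 : Fin 2058) cls a1275 1275 χ := by
  obtain ⟨hfin, -⟩ := Cfsg.Agent.SporadicB.HeUpper.card_he_le
  refine exists_of_orbital (0 : Fin 2058) cls r hcls htr 3 (fun i => wd (Cfsg.Agent.H707.Odd.He.w i)) w_smul B hB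
    a1275 (-4) ?_ ?_ ?_ base_tr k hk 1275 ?_
  · intro i
    fin_cases i <;> simp only [B, a1275, Fin.sum_univ_five, Matrix.cons_val, Fin.zero_eta, Fin.mk_one, Fin.reduceFinMk,
      Nat.cast_ofNat, Nat.cast_zero, Nat.cast_one] <;> norm_num
  · intro a' h i
    rw [cls_zero]
    exact huniq1275 a' h i
  · rw [cls_zero]
    rfl
  · rw [Fintype.card_fin]
    simp only [k, a1275, Fin.sum_univ_five, Matrix.cons_val, map_one, map_div₀, map_neg, map_ofNat, Nat.cast_ofNat,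
      Nat.cast_one]
    norm_num

/-- the spherical function of degree 680 -/
noncomputable def a680 : Fin 5 → ℂ := ![1, -13 / 680, 1 / 85, 5 / 68, 5 / 68]

theorem huniq680 (a' : Fin 5 → ℂ) (h : ∀ i, ∑ j, (B i j : ℂ) * a' j = 10 * a' i) (i : Fin 5) :
    a' i = a' 0 * a680 i := by
  have h0 := h 0
  have h1 := h 1
  have h2 := h 2
  have h3 := h 3
  simp only [B, Fin.sum_univ_five, Matrix.cons_val, Nat.cast_ofNat, Nat.cast_zero] at h0 h1 h2 h3
  fin_cases i
  · show a' 0 = a' 0 * 1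
    rw [mul_one]
  · show a' 1 = a' 0 * (-13 / 680)
    linear_combination (-13 / 6800 : ℂ) * h0 + (-9 / 3850 : ℂ) * h1 + (9 / 770 : ℂ) * h2 + (1 / 1540 : ℂ) * h3
  · show a' 2 = a' 0 * (1 / 85)
    linear_combination (1 / 850 : ℂ) * h0 + (72 / 1925 : ℂ) * h1 + (-47 / 2310 : ℂ) * h2 + (-4 / 385 : ℂ) * h3
  · show a' 3 = a' 0 * (5 / 68)
    linear_combination (1 / 136 : ℂ) * h0
  · show a' 4 = a' 0 * (5 / 68)
    linear_combination (1 / 136 : ℂ) * h0 + (1 / 154 : ℂ) * h1 + (-5 / 154 : ℂ) * h2 + (2 / 77 : ℂ) * h3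

theorem exists_680 : ∃ χ : Spor.He → ℂ, Val (0 : Fin 2058) cls a680 680 χ := by
  obtain ⟨hfin, -⟩ := Cfsg.Agent.SporadicB.HeUpper.card_he_le
  refine exists_of_orbital (0 : Fin 2058) cls r hcls htr 3 (fun i => wd (Cfsg.Agent.H707.Odd.He.w i)) w_smul B hB
    a680 10 ?_ ?_ ?_ base_tr k hk 680 ?_
  · intro i
    fin_cases i <;> simp only [B, a680, Fin.sum_univ_five, Matrix.cons_val, Fin.zero_eta, Fin.mk_one, Fin.reduceFinMk,
      Nat.cast_ofNat, Nat.cast_zero, Nat.cast_one] <;> norm_num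
  · intro a' h i
    rw [cls_zero]
    exact huniq680 a' h i
  · rw [cls_zero]
    rfl
  · rw [Fintype.card_fin]
    simp only [k, a680, Fin.sum_univ_five, Matrix.cons_val, map_one, map_div₀, map_neg, map_ofNat, Nat.cast_ofNat,
      Nat.cast_one]
    norm_num

theorem gc_1275 : GC fam [1275, 75, 27, 15, 0, 7, 3, 3, 0, 3, -6, 1, 1, -1, 0, 1, -2, -1, 0, 0, 1, 0] := by
  obtain ⟨χ, hχ⟩ := exists_1275
  refine GC.of (isGeneralizedCharacter_of_isCharacter (isIrr_isCharacter hχ.irr)) fun g => ?_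
  have h : ∀ i < 22, 2058 * 850 * ([1275, 75, 27, 15, 0, 7, 3, 3, 0, 3, -6, 1, 1, -1, 0, 1, -2, -1, 0, 0, 1, 0] : List ℤ).getD i 0 =
      1275 * (-51450 + 875 * (T0.getD i 0 : ℤ) + 35 * (T1.getD i 0 : ℤ) + 7 * (T2.getD i 0 : ℤ)) := by decide
  have h1 := val_eq' hχ (by rfl) g
  have h2 := congrArg (fun z : ℤ => (z : ℂ)) (h _ (fam_lt g))
  have e0 : a1275 0 = 1 := rfl
  have e1 : a1275 1 = 1 / 85 := rfl
  have e2 : a1275 2 = -9 / 425 := rfl
  have e3 : a1275 3 = -1 / 34 := rfl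
  rw [e0, e1, e2, e3] at h1
  push_cast at h1 h2
  rw [tv]
  linear_combination (1 / (2058 * 850)) * h2 - (1 / 2058) * h1

theorem gc_680 : GC fam [680, 56, 8, 14, -1, 0, 8, 0, 5, 2, 8, -6, 1, 0, 1, 0, 0, 1, -1, 0, 0, 0] := by
  obtain ⟨χ, hχ⟩ := exists_680
  refine GC.of (isGeneralizedCharacter_of_isCharacter (isIrr_isCharacter hχ.irr)) fun g => ?_
  have h : ∀ i < 22, 2058 * ([680, 56, 8, 14, -1, 0, 8, 0, 5, 2, 8, -6, 1, 0, 1, 0, 0, 1, -1, 0, 0, 0] : List ℤ).getD i 0 =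
      102900 + 630 * (T0.getD i 0 : ℤ) - 63 * (T1.getD i 0 : ℤ) - 42 * (T2.getD i 0 : ℤ) := by decide
  have h1 := val_eq' hχ (by rfl) g
  have h2 := congrArg (fun z : ℤ => (z : ℂ)) (h _ (fam_lt g))
  have e0 : a680 0 = 1 := rfl
  have e1 : a680 1 = -13 / 680 := rfl
  have e2 : a680 2 = 1 / 85 := rfl
  have e3 : a680 3 = 5 / 68 := rfl
  rw [e0, e1, e2, e3] at h1
  push_cast at h1 h2
  rw [tv]
  linear_combination (1 / 2058) * h2 - (1 / 2058) * h1

/-! ### Generalized characters -/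

def v0 : List ℤ := [1, 1, 1, 1, 1, 1, 1, 1, 1, 1, 1, 1, 1, 1, 1, 1, 1, 1, 1, 1, 1, 1]
theorem gc0 : GC fam v0 := gc_one
def v1 : List ℤ := [2058, 154, 42, 42, 0, 14, 18, 2, 8, 10, 0, 0, 0, 2, 4, 2, 0, 0, 2, 1, 0, 0]
theorem gc1 : GC fam v1 := gc_perm
def v2 : List ℤ := [1275, 75, 27, 15, 0, 7, 3, 3, 0, 3, -6, 1, 1, -1, 0, 1, -2, -1, 0, 0, 1, 0]
theorem gc2 : GC fam v2 := gc_1275
def v3 : List ℤ := [680, 56, 8, 14, -1, 0, 8, 0, 5, 2, 8, -6, 1, 0, 1, 0, 0, 1, -1, 0, 0, 0]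
theorem gc3 : GC fam v3 := gc_680
def v4 : List ℤ := [2058, 2058, 2058, 42, 0, 154, 42, 42, 8, 42, 0, 0, 0, 2, 8, 10, 0, 0, 2, 1, 0, 0]
theorem gc4 : GC fam v4 := gc1.psi fam_lt fam_sq v4 (by decide +kernel)
def v5 : List ℤ := [2116653, 10829, -147, 861, 0, 21, 141, -19, 28, 29, 0, 0, 0, 1, 4, -3, 0, 0, 1, 0, 0, 0]
theorem gc5 : GC fam v5 := gc1.alt fam_lt fam_sq v5 (by decide +kernel)
def v6 : List ℤ := [1275, 1275, 1275, 15, 0, 75, 27, 27, 0, 15, -6, 1, 1, 3, 0, 3, -6, 1, 0, 0, 1, -2]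
theorem gc6 : GC fam v6 := gc2.psi fam_lt fam_sq v6 (by decide +kernel)
def v7 : List ℤ := [812175, 2175, -273, 105, 0, -13, -9, -9, 0, -3, 21, 0, 0, -1, 0, -1, 5, 0, 0, 0, 0, 1]
theorem gc7 : GC fam v7 := gc2.alt fam_lt fam_sq v7 (by decide +kernel)
def v8 : List ℤ := [680, 680, 680, 14, -1, 56, 8, 8, 5, 14, 8, -6, 1, 0, 5, 2, 8, 1, -1, 0, 0, 0]
theorem gc8 : GC fam v8 := gc3.psi fam_lt fam_sq v8 (by decide +kernel)
def v9 : List ℤ := [230860, 1228, -308, 91, 1, -28, 28, -4, 10, -5, 28, 21, 0, 0, -2, -1, -4, 0, 1, 0, 0, 0]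
theorem gc9 : GC fam v9 := gc3.alt fam_lt fam_sq v9 (by decide +kernel)
def v10 : List ℤ := [2623950, 11550, 1134, 630, 0, 98, 54, 6, 0, 30, 0, 0, 0, -2, 0, 2, 0, 0, 0, 0, 0, 0]
theorem gc10 : GC fam v10 := gc1.mul fam_lt gc2 v10 (by decide +kernel)
def v11 : List ℤ := [1399440, 8624, 336, 588, 0, 0, 144, 0, 40, 20, 0, 0, 0, 0, 4, 0, 0, 0, -2, 0, 0, 0]
theorem gc11 : GC fam v11 := gc1.mul fam_lt gc3 v11 (by decide +kernel)
def v12 : List ℤ := [867000, 4200, 216, 210, 0, 0, 24, 0, 0, 6, -48, -6, 1, 0, 0, 0, 0, -1, 0, 0, 0, 0]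
theorem gc12 : GC fam v12 := gc2.mul fam_lt gc3 v12 (by decide +kernel)
def v13 : List ℤ := [2058, 2058, 2058, 42, 0, 2058, 2058, 2058, 8, 42, 0, 0, 0, 42, 8, 42, 0, 0, 2, 1, 0, 0]
theorem gc13 : GC fam v13 := gc4.psi fam_lt fam_sq v13 (by decide +kernel)
def v14 : List ℤ := [2116653, 2116653, 2116653, 861, 0, 10829, -147, -147, 28, 861, 0, 0, 0, -19, 28, 29, 0, 0,
  1, 0, 0, 0]
theorem gc14 : GC fam v14 := gc4.alt fam_lt fam_sq v14 (by decide +kernel)
def v15 : List ℤ := [1275, 1275, 1275, 15, 0, 1275, 1275, 1275, 0, 15, -6, 1, 1, 27, 0, 15, -6, 1, 0, 0, 1, -6]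
theorem gc15 : GC fam v15 := gc6.psi fam_lt fam_sq v15 (by decide +kernel)
def v16 : List ℤ := [812175, 812175, 812175, 105, 0, 2175, -273, -273, 0, 105, 21, 0, 0, -9, 0, -3, 21, 0, 0, 0,
  0, 5]
theorem gc16 : GC fam v16 := gc6.alt fam_lt fam_sq v16 (by decide +kernel)
def v17 : List ℤ := [329813709225, 1959225, -368823, 5460, 0, -1003, 177, 177, 0, -48, 210, 0, 0, 5, 0, 2, 2, 0,
  0, 0, 0, -2]
theorem gc17 : GC fam v17 := gc7.alt fam_lt fam_sq v17 (by decide +kernel)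
def v18 : List ℤ := [680, 680, 680, 14, -1, 680, 680, 680, 5, 14, 8, -6, 1, 8, 5, 14, 8, 1, -1, 0, 0, 8]
theorem gc18 : GC fam v18 := gc8.psi fam_lt fam_sq v18 (by decide +kernel)
def v19 : List ℤ := [230860, 230860, 230860, 91, 1, 1228, -308, -308, 10, 91, 28, 21, 0, -4, 10, -5, 28, 0, 1,
  0, 0, -4]
theorem gc19 : GC fam v19 := gc8.alt fam_lt fam_sq v19 (by decide +kernel)
def v20 : List ℤ := [26648054370, 638562, -67998, 4095, 0, -222, 546, 162, 45, -33, 378, 210, 0, 2, -3, 3, -6,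
  0, 0, 0, 0, 2]
theorem gc20 : GC fam v20 := gc9.alt fam_lt fam_sq v20 (by decide +kernel)
def v21 : List ℤ := [2623950, 2623950, 2623950, 630, 0, 11550, 1134, 1134, 0, 630, 0, 0, 0, 6, 0, 30, 0, 0, 0,
  0, 0, 0]
theorem gc21 : GC fam v21 := gc10.psi fam_lt fam_sq v21 (by decide +kernel)
def v22 : List ℤ := [1399440, 1399440, 1399440, 588, 0, 8624, 336, 336, 40, 588, 0, 0, 0, 0, 40, 20, 0, 0, -2,
  0, 0, 0]
theorem gc22 : GC fam v22 := gc11.psi fam_lt fam_sq v22 (by decide +kernel)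
def v23 : List ℤ := [867000, 867000, 867000, 210, 0, 4200, 216, 216, 0, 210, -48, -6, 1, 0, 0, 6, -48, 1, 0, 0,
  0, 0]
theorem gc23 : GC fam v23 := gc12.psi fam_lt fam_sq v23 (by decide +kernel)

/-- the table of the character of degree 20825 -/
def th : List ℤ := [20825, -55, -7, 35, -1, 1, -7, 1, 0, -1, -7, 0, 0, 1, 0, 1, 1, 0, 0, 0, 0, 1]

theorem gc_th : GC fam th := GC.lin fam_lt [
(71044286, v0), (-261196180, v1), (125095436, v2), (778293577, v3), (109661348, v4), (-11821999, v5),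
  (-310634512, v6), (-443752441, v7), (-687957207, v8), (-151707244, v9), (155016270, v10), (181605, v11),
  (-125095436, v12), (80490546, v13), (75320468, v14), (114494790, v15), (244532324, v16), (-48929, v17),
  (-25393653, v18), (145605674, v19), (610157, v20), (-148059959, v21), (-39476657, v22), (60152719, v23)]
    (
List.forall_mem_cons.2 ⟨gc0, List.forall_mem_cons.2 ⟨gc1, List.forall_mem_cons.2 ⟨gc2, List.forall_mem_cons.2
  ⟨gc3, List.forall_mem_cons.2 ⟨gc4, List.forall_mem_cons.2 ⟨gc5, List.forall_mem_cons.2 ⟨gc6,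
  List.forall_mem_cons.2 ⟨gc7, List.forall_mem_cons.2 ⟨gc8, List.forall_mem_cons.2 ⟨gc9, List.forall_mem_cons.2
  ⟨gc10, List.forall_mem_cons.2 ⟨gc11, List.forall_mem_cons.2 ⟨gc12, List.forall_mem_cons.2 ⟨gc13,
  List.forall_mem_cons.2 ⟨gc14, List.forall_mem_cons.2 ⟨gc15, List.forall_mem_cons.2 ⟨gc16,
  List.forall_mem_cons.2 ⟨gc17, List.forall_mem_cons.2 ⟨gc18, List.forall_mem_cons.2 ⟨gc19,
  List.forall_mem_cons.2 ⟨gc20, List.forall_mem_cons.2 ⟨gc21, List.forall_mem_cons.2 ⟨gc22,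
  List.forall_mem_cons.2 ⟨gc23, fun _ h => absurd h List.not_mem_nil⟩⟩⟩⟩⟩⟩⟩⟩⟩⟩⟩⟩⟩⟩⟩⟩⟩⟩⟩⟩⟩⟩⟩⟩) th
    (by decide +kernel)

/-- **The irreducible character of degree 20825 of the Held group.** -/
theorem exists_20825 : ∃ χ : IrrCharacter Cfsg.Spor.He, charDegree (χ : Cfsg.Spor.He → ℂ) = 20825 := by
  obtain ⟨hfin, -⟩ := Cfsg.Agent.SporadicB.HeUpper.card_he_le
  have := Fintype.ofFinite Cfsg.Spor.He
  obtain ⟨x, h1, h2, h3, h4⟩ := classes33
  have h5 : IsIrrCharacter Cfsg.Spor.He (tv fam th) := by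
    refine GC.irr gc_th x h2 h3 (fun i => 4030387200 / C33.getD i 0) h4 (fun _ _ => fam_conj)
      (fun i => F33.getD i 0) (fun i => (h1 i).fam_eq) ?_ ?_
    · rw [Cfsg.Agent.KFacts.He.Classes.card_he]
      decide +kernel
    · rw [fam_one]
      decide
  refine ⟨⟨_, h5⟩, Cfsg.Agent.Blocks.Basic.charDegree_of_eq ?_⟩
  show tv fam th 1 = _
  rw [tv, fam_one]
  norm_num [th]

end Cfsg.Agent.H825.SB.He

private theorem dce_4c4fff14bb5a : _root_.True := by
  try have : _root_.True := by simp only [_root_.Cfsg.Agent.H825.SB.He.fam.eq_1]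
  try have : _root_.True := by simp only [_root_.Cfsg.Agent.H825.SB.He.a680.eq_1]
  try have : _root_.True := by simp only [_root_.Cfsg.Agent.H825.SB.He.th.eq_1]
  try have : _root_.True := by simp only [_root_.Cfsg.Agent.H825.SB.He.a1275.eq_1]
  exact _root_.True.intro
end
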